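import Mathlib
import Groth.Prelude.Def_W4bk4bump814p2PDiff

/-!
The filtration of Kähler differentials by power differentials is a filtration by subgroups.
-/

set_option autoImplicit false
set_option linter.all false

universe u v

namespace Groth.Agent.PDiffSigma

open W4bk4bump814p2

variable {K : Type u} {A : Type v} [Field K] [CommRing A] [Algebra K A] {p : ℕ}

variable (K A p) in
/-- The subgroup generated by the power differentials of index `< i`. -/
noncomputable def sub (i : ℕ) : AddSubgroup (Ω[A⁄K]) :=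
  AddSubgroup.closure (⋃ j ∈ Finset.range i, Set.range (delta K A p j))

theorem delta_mem {i j : ℕ} (h : j < i) (x : A) : delta K A p j x ∈ sub K A p i :=
  AddSubgroup.subset_closure (Set.mem_iUnion₂.2 ⟨j, Finset.mem_range.2 h, x, rfl⟩)

theorem sub_mono {i j : ℕ} (h : i ≤ j) : sub K A p i ≤ sub K A p j :=
  (AddSubgroup.closure_le _).2 fun _ hω => by
    obtain ⟨l, hl, x, rfl⟩ := Set.mem_iUnion₂.1 hω
    exact delta_mem (lt_of_lt_of_le (Finset.mem_range.1 hl) h) x

theorem delta_zero_arg (i : ℕ) : delta K A p i 0 = 0 := by simp [delta]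

variable [Fact p.Prime] [CharP K p]

theorem natCast_p (K : Type u) {A : Type v} [Field K] [CommRing A] [Algebra K A] {p : ℕ} [CharP K p] : (p : A) = 0 := by
  rw [← map_natCast (algebraMap K A), CharP.cast_eq_zero, map_zero]

theorem delta_algebraMap_mul (j : ℕ) (c : K) (x : A) :
    delta K A p j (algebraMap K A c * x) = c ^ (p ^ j) • delta K A p j x := by
  have h1 : p ^ j - 1 + 1 = p ^ j := Nat.sub_add_cancel (Nat.one_le_pow _ _ (Fact.out : p.Prime).pos)
  rw [delta, delta, Derivation.leibniz, Derivation.map_algebraMap, smul_zero, add_zero, smul_smul,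
    ← algebraMap_smul A (c ^ p ^ j), smul_smul, map_pow]
  congr 1
  rw [mul_pow, mul_assoc, mul_comm (x ^ (p ^ j - 1)), ← mul_assoc, ← pow_succ, h1]

theorem pow_mem {i j : ℕ} (h : j < i) (x y : A) : x ^ (p ^ i) • delta K A p j y ∈ sub K A p i := by
  have h1 : p ^ j - 1 + 1 = p ^ j := Nat.sub_add_cancel (Nat.one_le_pow _ _ (Fact.out : p.Prime).pos)
  let z := x ^ (p ^ (i - j))
  have hD : KaehlerDifferential.D K A z = 0 := by
    rw [Derivation.leibniz_pow, ← Nat.cast_smul_eq_nsmul A, Nat.cast_pow, natCast_p K, zero_pow (by omega), zero_smul]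
  have hz : z ^ (p ^ j) = x ^ (p ^ i) := by rw [← pow_mul, ← pow_add, Nat.sub_add_cancel h.le]
  have : x ^ (p ^ i) • delta K A p j y = delta K A p j (z * y) := by
    rw [delta, delta, Derivation.leibniz, hD, smul_zero, add_zero, smul_smul, smul_smul]
    congr 1
    rw [mul_pow, ← hz, mul_assoc, mul_comm (y ^ (p ^ j - 1)) z, ← mul_assoc (z ^ _), ← pow_succ, h1]
  rw [this]
  exact delta_mem h _

theorem defect_mem (i : ℕ) (x y : A) :
    delta K A p i (x + y) - delta K A p i x - delta K A p i y ∈ sub K A p i := by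
  have hp := (Fact.out : p.Prime)
  let q := p ^ i
  have hq : q - 1 + 1 = q := Nat.sub_add_cancel (Nat.one_le_pow _ _ hp.pos)
  -- coefficients
  let P : ℕ → A := fun a => (((q - 1).choose a : ℕ) : A) * x ^ a * y ^ (q - 1 - a)
  have hexp : (x + y) ^ (q - 1) = ∑ a ∈ Finset.range q, P a := by
    rw [add_pow, hq]
    exact Finset.sum_congr rfl fun a _ => by simp only [P]; ring
  let T : ℕ → Ω[A⁄K] := fun a => P a • KaehlerDifferential.D K A x + P (a + 1) • KaehlerDifferential.D K A y
  have hdef : delta K A p i (x + y) - delta K A p i x - delta K A p i y = ∑ a ∈ Finset.range (q - 1), T a := by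
    simp only [delta, map_add, smul_add, T, Finset.sum_add_distrib, ← Finset.sum_smul]
    rw [show p ^ i = q from rfl, hexp]
    conv_lhs => rw [show Finset.range q = Finset.range (q - 1 + 1) by rw [hq]]
    have e1 : P (q - 1) = x ^ (q - 1) := by simp [P]
    have e0 : P 0 = y ^ (q - 1) := by simp [P]
    conv_lhs => enter [1, 1, 1]; rw [Finset.sum_range_succ, e1]
    conv_lhs => enter [1, 1, 2]; rw [Finset.sum_range_succ', e0]
    rw [add_smul, add_smul]
    abel
  rw [hdef]
  refine sum_mem fun a ha => ?_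
  have ha' : a + 1 < q := by have := Finset.mem_range.1 ha; omega
  -- `a + 1 = p ^ j * a'`, `q - (a + 1) = p ^ j * b'`
  obtain ⟨j, a', ha0, haj⟩ := Nat.exists_eq_pow_mul_and_not_dvd (Nat.succ_ne_zero a) p hp.ne_one
  have hji : j < i := by
    refine (Nat.pow_lt_pow_iff_right hp.one_lt).1 (lt_of_le_of_lt ?_ ha')
    rw [show a + 1 = p ^ j * a' from haj]
    exact Nat.le_mul_of_pos_right _ (Nat.pos_of_ne_zero (by rintro rfl; simp at ha0))
  obtain ⟨b', hb'⟩ : p ^ j ∣ q - (a + 1) := Nat.dvd_sub (pow_dvd_pow p hji.le) ⟨a', haj⟩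
  have hsum : a' + b' = p ^ (i - j) := by
    refine Nat.eq_of_mul_eq_mul_left (pow_pos hp.pos j) ?_
    rw [mul_add, ← haj, ← hb', ← pow_add, Nat.add_sub_cancel' hji.le]
    show a + 1 + (q - (a + 1)) = q
    omega
  have hneg : (b' : A) = -(a' : A) := by
    rw [eq_neg_iff_add_eq_zero, ← Nat.cast_add, add_comm, hsum, Nat.cast_pow, natCast_p K, zero_pow (by omega)]
  have ha'K : (a' : K) ≠ 0 := fun h => ha0 ((CharP.cast_eq_zero_iff K p a').1 h)
  let k : K := (((q - 1).choose a : ℕ) : K) * (a' : K)⁻¹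
  have hk : k ^ (p ^ j) = k := by
    have hn : ∀ n : ℕ, (n : K) ^ (p ^ j) = n := fun n => by
      haveI : ExpChar K p := ExpChar.prime hp
      rw [← iterateFrobenius_def]
      exact map_natCast _ _
    simp only [k, mul_pow, inv_pow, hn]
  have hch : ((((q - 1).choose (a + 1) : ℕ) : A)) = -(((q - 1).choose a : ℕ) : A) := by
    rw [eq_neg_iff_add_eq_zero, ← Nat.cast_add, add_comm, ← Nat.choose_succ_succ', hq,
      ← map_natCast (algebraMap K A), (CharP.cast_eq_zero_iff K p _).2 (hp.dvd_choose_pow (Nat.succ_ne_zero a) ha'.ne),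
      map_zero]
  suffices h : T a = delta K A p j (algebraMap K A k * (x ^ a' * y ^ b')) by rw [h]; exact delta_mem hji _
  rw [delta_algebraMap_mul, hk, delta]
  have hm : (x ^ a' * y ^ b') ^ (p ^ j - 1) • KaehlerDifferential.D K A (x ^ a' * y ^ b') =
      ((a' : A) * x ^ a * y ^ (q - 1 - a)) • KaehlerDifferential.D K A x +
        ((b' : A) * x ^ (a + 1) * y ^ (q - 1 - (a + 1))) • KaehlerDifferential.D K A y := by
    rw [Derivation.leibniz, Derivation.leibniz_pow, Derivation.leibniz_pow, ← Nat.cast_smul_eq_nsmul A a',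
      ← Nat.cast_smul_eq_nsmul A b', smul_smul, smul_smul, smul_smul, smul_smul, smul_add, smul_smul, smul_smul, add_comm]
    rcases Nat.eq_zero_or_pos b' with rfl | hb0
    · simp at hb'; omega
    have hA0 : 0 < a' := Nat.pos_of_ne_zero (by rintro rfl; simp at ha0)
    have hpj : 0 < p ^ j := pow_pos hp.pos j
    congr 2
    · have e1 : a = a' * (p ^ j - 1) + (a' - 1) := by
        have : a + 1 = p ^ j * a' := haj
        have : a' * (p ^ j - 1) + a' = p ^ j * a' := by rw [← Nat.mul_succ, Nat.succ_eq_add_one, Nat.sub_add_cancel hpj, mul_comm]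
        omega
      have e2 : q - 1 - a = b' * (p ^ j - 1) + b' := by
        rw [← Nat.mul_succ, Nat.succ_eq_add_one, Nat.sub_add_cancel hpj, mul_comm, ← hb']
        omega
      rw [e2]; conv_rhs => rw [e1]
      ring
    · have e1 : a + 1 = a' * (p ^ j - 1) + a' := by
        rw [← Nat.mul_succ, Nat.succ_eq_add_one, Nat.sub_add_cancel hpj, mul_comm]; exact haj
      have e2 : q - 1 - (a + 1) = b' * (p ^ j - 1) + (b' - 1) := by
        have : b' * (p ^ j - 1) + b' = p ^ j * b' := by rw [← Nat.mul_succ, Nat.succ_eq_add_one, Nat.sub_add_cancel hpj, mul_comm]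
        omega
      rw [e1] at *
      rw [e2]
      ring
  rw [hm, hneg, ← algebraMap_smul A k, smul_add, smul_smul, smul_smul]
  simp only [T, P]
  have hka : algebraMap K A k * (a' : A) = (((q - 1).choose a : ℕ) : A) := by
    rw [← map_natCast (algebraMap K A) a', ← map_mul, inv_mul_cancel_right₀ ha'K, map_natCast]
  rw [hch, ← hka]
  congr 2 <;> ring

theorem sigma_eq (i : ℕ) : sigma K A p i = sub K A p i := by
  induction i with
  | zero => simp [sub]
  | succ i ih =>
    ext ω
    rw [mem_sigma_succ]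
    simp only [ih, SetLike.mem_coe]
    refine ⟨?_, fun hω => ?_⟩
    · rintro ⟨x, hx⟩
      simpa using add_mem (sub_mono (Nat.le_succ i) hx) (delta_mem (Nat.lt_succ_self i) x)
    · refine AddSubgroup.closure_induction (fun ω hω => ?_) ?_ (fun a b _ _ ha hb => ?_) (fun a _ ha => ?_) hω
      · obtain ⟨j, hj, x, rfl⟩ := Set.mem_iUnion₂.1 hω
        rcases Nat.lt_succ_iff_lt_or_eq.1 (Finset.mem_range.1 hj) with h | rfl
        · exact ⟨0, by simpa [delta_zero_arg] using delta_mem h x⟩
        · exact ⟨x, by simp⟩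
      · exact ⟨0, by simp [delta_zero_arg]⟩
      · obtain ⟨x, hx⟩ := ha; obtain ⟨y, hy⟩ := hb
        refine ⟨x + y, ?_⟩
        convert sub_mem (add_mem hx hy) (defect_mem (K := K) i x y) using 1
        abel
      · obtain ⟨x, hx⟩ := ha
        refine ⟨-x, ?_⟩
        convert add_mem (neg_mem hx) (defect_mem (K := K) i x (-x)) using 1
        rw [add_neg_cancel, delta_zero_arg]
        abel

theorem smul_mem [PerfectField K] (i : ℕ) (c : K) {ω : Ω[A⁄K]} (h : ω ∈ sub K A p i) : c • ω ∈ sub K A p i := by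
  refine AddSubgroup.closure_induction (fun ω hω => ?_) ?_ (fun a b _ _ ha hb => ?_) (fun a _ ha => ?_) h
  · obtain ⟨j, hj, x, rfl⟩ := Set.mem_iUnion₂.1 hω
    haveI : ExpChar K p := ExpChar.prime Fact.out
    haveI : PerfectRing K p := PerfectField.toPerfectRing p
    obtain ⟨d, hd⟩ := (bijective_iterateFrobenius K p j).2 c
    rw [← hd, iterateFrobenius_def, ← delta_algebraMap_mul]
    exact delta_mem (Finset.mem_range.1 hj) _
  · rw [smul_zero]; exact zero_mem _
  · rw [smul_add]; exact add_mem ha hb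
  · rw [smul_neg]; exact neg_mem ha

end Groth.Agent.PDiffSigma
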